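import Mathlib

/-!
# Diagonalisation of hermitian forms over rings with involution and local fixed ring
-/

set_option autoImplicit false
universe v
open Matrix

namespace Groth.Agent.HermDiag

variable {A : Type v} [CommRing A] [StarRing A] (M : Ideal A)

theorem star_dot {ι : Type*} [Fintype ι] (a b : ι → A) : star (a ⬝ᵥ b) = star b ⬝ᵥ star a := by
  simp [dotProduct, star_sum, mul_comm]

/-- The value `h(v, v)`. -/
def q {n : ℕ} (h : Matrix (Fin n) (Fin n) A) (v : Fin n → A) : A := star v ⬝ᵥ (h *ᵥ v)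

theorem q_congr {n : ℕ} (h P : Matrix (Fin n) (Fin n) A) (v : Fin n → A) :
    q (Pᴴ * h * P) v = q h (P *ᵥ v) := by
  simp only [q, ← mulVec_mulVec, star_mulVec, dotProduct_mulVec, vecMul_vecMul]

theorem congr_apply_zero {n : ℕ} (h P : Matrix (Fin (n + 1)) (Fin (n + 1)) A) :
    (Pᴴ * h * P) 0 0 = q h (fun k => P k 0) := by
  rw [Matrix.mul_assoc]
  simp [q, Matrix.mul_apply, dotProduct, mulVec]

/-- Block diagonal with a `1 × 1` block. -/
def blk {n : ℕ} (a : A) (h : Matrix (Fin n) (Fin n) A) : Matrix (Fin (n + 1)) (Fin (n + 1)) A :=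
  Matrix.of (Fin.cons (Fin.cons a 0) fun i => Fin.cons 0 (h i))

variable {n : ℕ}

@[simp] theorem blk_00 (a : A) (h : Matrix (Fin n) (Fin n) A) : blk a h 0 0 = a := rfl
@[simp] theorem blk_0s (a : A) (h : Matrix (Fin n) (Fin n) A) (j : Fin n) : blk a h 0 j.succ = 0 := by
  simp [blk]
@[simp] theorem blk_s0 (a : A) (h : Matrix (Fin n) (Fin n) A) (i : Fin n) : blk a h i.succ 0 = 0 := by
  simp [blk]
@[simp] theorem blk_ss (a : A) (h : Matrix (Fin n) (Fin n) A) (i j : Fin n) :
    blk a h i.succ j.succ = h i j := by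
  simp [blk]

theorem blk_mul (a b : A) (h k : Matrix (Fin n) (Fin n) A) : blk a h * blk b k = blk (a * b) (h * k) := by
  ext i j
  refine Fin.cases (Fin.cases ?_ (fun j => ?_) j) (fun i => Fin.cases ?_ (fun j => ?_) j) i <;>
    simp [Matrix.mul_apply, Fin.sum_univ_succ]

theorem blk_conjTranspose (a : A) (h : Matrix (Fin n) (Fin n) A) : (blk a h)ᴴ = blk (star a) hᴴ := by
  ext i j
  refine Fin.cases (Fin.cases ?_ (fun j => ?_) j) (fun i => Fin.cases ?_ (fun j => ?_) j) i <;>
    simp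

theorem blk_diagonal (a : A) (d : Fin n → A) : blk a (diagonal d) = diagonal (Fin.cons a d) := by
  ext i j
  refine Fin.cases (Fin.cases ?_ (fun j => ?_) j) (fun i => Fin.cases ?_ (fun j => ?_) j) i <;>
    simp [diagonal_apply, Fin.succ_ne_zero, Ne.symm (Fin.succ_ne_zero _)]

theorem det_blk (a : A) (h : Matrix (Fin n) (Fin n) A) : (blk a h).det = a * h.det := by
  rw [det_succ_row_zero, Fin.sum_univ_succ]
  have : (blk a h).submatrix Fin.succ ((0 : Fin (n + 1)).succAbove) = h := by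
    ext i j
    simp
  rw [this]
  simp

theorem blk_mulVec (a : A) (h : Matrix (Fin n) (Fin n) A) (c : A) (t : Fin n → A) :
    blk a h *ᵥ (Fin.cons c t) = Fin.cons (a * c) (h *ᵥ t) := by
  funext i
  refine Fin.cases ?_ (fun i => ?_) i <;> simp [mulVec, dotProduct, Fin.sum_univ_succ]

theorem star_cons_dot (c c' : A) (t t' : Fin n → A) :
    star (Fin.cons c t : Fin (n + 1) → A) ⬝ᵥ (Fin.cons c' t') = star c * c' + star t ⬝ᵥ t' := by
  simp [dotProduct, Fin.sum_univ_succ]

theorem q_blk (a : A) (h : Matrix (Fin n) (Fin n) A) (c : A) (t : Fin n → A) :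
    q (blk a h) (Fin.cons c t) = star c * (a * c) + q h t := by
  rw [q, blk_mulVec, star_cons_dot]
  rfl

variable {ε : A} (hε2 : ε * ε = 1) (hεs : star ε = ε)
  (hM : ∀ w : A, w ∉ M → star w ∉ M → IsUnit w)

theorem herm_congr {h : Matrix (Fin n) (Fin n) A} (hh : hᴴ = ε • h) (P : Matrix (Fin n) (Fin n) A) :
    (Pᴴ * h * P)ᴴ = ε • (Pᴴ * h * P) := by
  rw [conjTranspose_mul, conjTranspose_mul, conjTranspose_conjTranspose, hh]
  simp [Matrix.mul_assoc]

theorem star_q {h : Matrix (Fin n) (Fin n) A} (hh : hᴴ = ε • h) (v : Fin n → A) :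
    star (q h v) = ε * q h v := by
  rw [q, star_dot, star_star, star_mulVec, hh]
  rw [← dotProduct_mulVec, smul_mulVec, dotProduct_smul, smul_eq_mul]

include hε2 hM in
theorem isUnit_q {h : Matrix (Fin n) (Fin n) A} (hh : hᴴ = ε • h) (v : Fin n → A) (hv : q h v ∉ M) :
    IsUnit (q h v) := by
  refine hM _ hv fun hs => hv ?_
  rw [star_q hh] at hs
  have := M.mul_mem_left ε hs
  rwa [← mul_assoc, hε2, one_mul] at this

/-- Completing a vector to a basis. -/
theorem exists_basis_of_isUnit (v : Fin (n + 1) → A) (k : Fin (n + 1)) (hk : IsUnit (v k)) :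
    ∃ P : Matrix (Fin (n + 1)) (Fin (n + 1)) A, IsUnit P ∧ (fun i => P i 0) = v := by
  refine ⟨((1 : Matrix (Fin (n + 1)) (Fin (n + 1)) A).updateCol k v).submatrix id (Equiv.swap 0 k), ?_, ?_⟩
  · rw [isUnit_iff_isUnit_det, det_permute', ← cramer_apply, cramer_one]
    refine IsUnit.mul ?_ hk
    exact ((Equiv.Perm.sign (Equiv.swap 0 k)).isUnit.map (Int.castRingHom A))
  · funext i
    simp

include hM in
theorem exists_basis (v : Fin (n + 1) → A) (h1 : ∃ k, v k ∉ M) (h2 : ∃ l, star (v l) ∉ M) :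
    ∃ P : Matrix (Fin (n + 1)) (Fin (n + 1)) A, IsUnit P ∧ (fun i => P i 0) = v := by
  by_cases hu : ∃ k, IsUnit (v k)
  · obtain ⟨k, hk⟩ := hu
    exact exists_basis_of_isUnit v k hk
  push Not at hu
  obtain ⟨k, hk⟩ := h1
  obtain ⟨l, hl⟩ := h2
  have hk' : star (v k) ∈ M := by
    by_contra h
    exact hu k (hM _ hk h)
  have hl' : v l ∈ M := by
    by_contra h
    exact hu l (hM _ h hl)
  have hkl : k ≠ l := fun e => hk (e ▸ hl')
  let T := transvection k l (1 : A)
  let T' := transvection k l (-1 : A)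
  have hTT : T' * T = 1 := by
    rw [transvection_mul_transvection_same _ _ hkl]
    simp
  have hTk : (T *ᵥ v) k = v k + v l := by
    simp [T, transvection, mulVec, dotProduct, Matrix.single_apply, Matrix.one_apply, add_mul, Finset.sum_add_distrib]
  have hunit : IsUnit ((T *ᵥ v) k) := by
    rw [hTk]
    refine hM _ (fun h => hk ?_) (fun h => hl ?_)
    · simpa using sub_mem h hl'
    · rw [star_add] at h
      simpa using sub_mem h hk'
  obtain ⟨P, hP, hPv⟩ := exists_basis_of_isUnit (T *ᵥ v) k hunit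
  refine ⟨T' * P, IsUnit.mul ?_ hP, ?_⟩
  · rw [isUnit_iff_isUnit_det, det_transvection_of_ne _ _ hkl]
    exact isUnit_one
  · funext i
    have e : (fun j => (T' * P) j 0) = T' *ᵥ (fun j => P j 0) := by
      funext j; simp [Matrix.mul_apply, mulVec, dotProduct]
    rw [congrFun e i, hPv, mulVec_mulVec, hTT, one_mulVec]

include hε2 hM in
/-- Move a vector with unit value to the first place. -/
theorem exists_congr_apply_zero {h : Matrix (Fin (n + 1)) (Fin (n + 1)) A}
    (v : Fin (n + 1) → A) (hv : q h v ∉ M) (hh : hᴴ = ε • h) :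
    ∃ P : Matrix (Fin (n + 1)) (Fin (n + 1)) A, IsUnit P ∧ (fun i => P i 0) = v ∧
      IsUnit ((Pᴴ * h * P) 0 0) := by
  obtain ⟨P, hP, hPv⟩ := exists_basis M hM v
    (by
      by_contra hall
      push Not at hall
      apply hv
      unfold q mulVec dotProduct
      exact Ideal.sum_mem _ fun i _ => M.mul_mem_left _ (Ideal.sum_mem _ fun j _ =>
        M.mul_mem_left _ (hall j)))
    (by
      by_contra hall
      push Not at hall
      apply hv
      unfold q mulVec dotProduct
      exact Ideal.sum_mem _ fun i _ => M.mul_mem_right _ (hall i))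
  refine ⟨P, hP, hPv, ?_⟩
  rw [congr_apply_zero, hPv]
  exact isUnit_q M hε2 hM hh v hv

theorem isUnit_congr {h P : Matrix (Fin n) (Fin n) A} (hh : IsUnit h) (hP : IsUnit P) :
    IsUnit (Pᴴ * h * P) :=
  (hP.star.mul hh).mul hP

include hε2 hεs in
/-- Splitting off a unit diagonal entry. -/
theorem exists_split {h : Matrix (Fin (n + 1)) (Fin (n + 1)) A} (hh : hᴴ = ε • h) (hu : IsUnit h)
    (ha : IsUnit (h 0 0)) :
    ∃ (Q : Matrix (Fin (n + 1)) (Fin (n + 1)) A) (h₁ : Matrix (Fin n) (Fin n) A),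
      IsUnit Q ∧ h₁ᴴ = ε • h₁ ∧ IsUnit h₁ ∧ Qᴴ * h * Q = blk (h 0 0) h₁ ∧
      ∀ z, (h *ᵥ z) 0 = 0 → ∃ t, q h₁ t = q h z := by
  obtain ⟨b, hb⟩ := isUnit_iff_exists_inv.mp ha
  let c : Fin n → A := fun j => h 0 j.succ * b
  let Q : Matrix (Fin (n + 1)) (Fin (n + 1)) A :=
    Matrix.of (Fin.cons (Fin.cons 1 fun j => -c j) fun i => Fin.cons 0 ((1 : Matrix (Fin n) (Fin n) A) i))
  let Q' : Matrix (Fin (n + 1)) (Fin (n + 1)) A :=
    Matrix.of (Fin.cons (Fin.cons 1 c) fun i => Fin.cons 0 ((1 : Matrix (Fin n) (Fin n) A) i))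
  have hQQ' : Q * Q' = 1 := by
    ext i j
    refine Fin.cases (Fin.cases ?_ (fun j => ?_) j) (fun i => Fin.cases ?_ (fun j => ?_) j) i <;>
      simp [Q, Q', Matrix.mul_apply, Fin.sum_univ_succ, Matrix.one_apply, Fin.succ_ne_zero,
        Ne.symm (Fin.succ_ne_zero _)]
  have hQ'Q : Q' * Q = 1 := mul_eq_one_comm.mp hQQ'
  have hQu : IsUnit Q := (isUnit_iff_exists.mpr ⟨Q', hQQ', hQ'Q⟩)
  have hstar : ∀ i j, star (h j i) = ε * h i j := fun i j => by
    have := congrFun (congrFun hh i) j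
    simpa using this
  have hsb : star b = ε * b := by
    have h1 : star (h 0 0) * star b = 1 := by rw [← star_mul', hb, star_one]
    rw [hstar 0 0] at h1
    calc star b = (h 0 0 * b) * star b := by rw [hb, one_mul]
      _ = (ε * h 0 0 * star b) * (ε * b) := by
        linear_combination (-(h 0 0) * b * star b) * hε2
      _ = ε * b := by rw [h1, one_mul]
  let h₁ : Matrix (Fin n) (Fin n) A := Matrix.of fun i j => h i.succ j.succ - h i.succ 0 * c j
  have hQ0 : ∀ k, Q k 0 = if k = 0 then 1 else 0 := fun k => by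
    refine Fin.cases ?_ (fun k => ?_) k <;> simp [Q, Fin.succ_ne_zero]
  have hform : Qᴴ * h * Q = blk (h 0 0) h₁ := by
    rw [Matrix.mul_assoc]
    ext i j
    refine Fin.cases (Fin.cases ?_ (fun j => ?_) j) (fun i => Fin.cases ?_ (fun j => ?_) j) i
    · simp [Q, h₁, Matrix.mul_apply, Fin.sum_univ_succ]
    · simp [Q, h₁, c, Matrix.mul_apply, Fin.sum_univ_succ, Matrix.one_apply]
      linear_combination (-(h 0 j.succ)) * hb
    · simp [Q, h₁, Matrix.mul_apply, Fin.sum_univ_succ, Matrix.one_apply, apply_ite star, c]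
      rw [hstar i.succ 0, hsb]
      linear_combination (-(ε * ε * h i.succ 0)) * hb + (-(h i.succ 0)) * hε2
    · simp [Q, h₁, Matrix.mul_apply, Fin.sum_univ_succ, Matrix.one_apply, apply_ite star, c]
      linear_combination (-(star b * star (h 0 i.succ) * h 0 j.succ)) * hb * (-1)
  refine ⟨Q, h₁, hQu, ?_, ?_, hform, fun z hz => ?_⟩
  · have := herm_congr hh Q
    rw [hform] at this
    ext i j
    have := congrFun (congrFun this i.succ) j.succ
    simpa using this
  · have := isUnit_congr hu hQu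
    rw [hform, isUnit_iff_isUnit_det, det_blk] at this
    exact (isUnit_iff_isUnit_det _).mpr (isUnit_of_mul_isUnit_right this)
  · refine ⟨Fin.tail (Q' *ᵥ z), ?_⟩
    have h1 : q (blk (h 0 0) h₁) (Q' *ᵥ z) = q h z := by
      rw [← hform, q_congr, mulVec_mulVec, hQQ', one_mulVec]
    have h2 : (Q' *ᵥ z) 0 = 0 := by
      have e1 : ((Qᴴ * h * Q) *ᵥ (Q' *ᵥ z)) 0 = 0 := by
        rw [mulVec_mulVec, Matrix.mul_assoc, hQQ', Matrix.mul_one, ← mulVec_mulVec]
        simp only [mulVec, dotProduct, conjTranspose_apply, hQ0, apply_ite star, star_one, star_zero,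
          ite_mul, one_mul, zero_mul, Finset.sum_ite_eq', Finset.mem_univ, if_true]
        exact hz
      rw [hform, ← Fin.cons_self_tail (Q' *ᵥ z), blk_mulVec, Fin.cons_zero] at e1
      calc (Q' *ᵥ z) 0 = b * (h 0 0 * (Q' *ᵥ z) 0) := by
            rw [← mul_assoc, mul_comm b, hb, one_mul]
        _ = 0 := by rw [e1, mul_zero]
    rw [← h1]
    conv_rhs => rw [← Fin.cons_self_tail (Q' *ᵥ z), q_blk, h2]
    simp

include hε2 hεs hM in
theorem exists_diag [M.IsPrime] : ∀ (n : ℕ) (h : Matrix (Fin n) (Fin n) A), hᴴ = ε • h → IsUnit h →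
    (n = 0 ∨ ∃ v, q h v ∉ M) →
    ∃ V : Matrix (Fin n) (Fin n) A, IsUnit V ∧ ∃ d : Fin n → A, Vᴴ * h * V = diagonal d := by
  intro n
  induction n with
  | zero => exact fun h _ _ _ => ⟨1, isUnit_one, 0, Subsingleton.elim _ _⟩
  | succ n ih =>
    intro h hh hu hex
    have key : ∀ (P : Matrix (Fin (n + 1)) (Fin (n + 1)) A), IsUnit P → IsUnit ((Pᴴ * h * P) 0 0) →
        (n = 0 ∨ ∃ z, ((Pᴴ * h * P) *ᵥ z) 0 = 0 ∧ q (Pᴴ * h * P) z ∉ M) →
        ∃ V : Matrix (Fin (n + 1)) (Fin (n + 1)) A, IsUnit V ∧ ∃ d, Vᴴ * h * V = diagonal d := by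
      intro P hP ha hz
      obtain ⟨Q, h₁, hQ, hh₁, hu₁, hform, htail⟩ :=
        exists_split hε2 hεs (herm_congr hh P) (isUnit_congr hu hP) ha
      obtain ⟨V, hV, d, hd⟩ := ih h₁ hh₁ hu₁ (hz.imp_right fun ⟨z, hz0, hzM⟩ => by
        obtain ⟨t, ht⟩ := htail z hz0
        exact ⟨t, ht ▸ hzM⟩)
      refine ⟨P * Q * blk 1 V, (hP.mul hQ).mul ?_, Fin.cons ((Pᴴ * h * P) 0 0) d, ?_⟩
      · rw [isUnit_iff_isUnit_det, det_blk, one_mul]
        exact (isUnit_iff_isUnit_det _).mp hV
      · calc (P * Q * blk 1 V)ᴴ * h * (P * Q * blk 1 V)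
            = (blk 1 V)ᴴ * (Qᴴ * (Pᴴ * h * P) * Q) * blk 1 V := by
              simp only [conjTranspose_mul, Matrix.mul_assoc]
          _ = diagonal (Fin.cons ((Pᴴ * h * P) 0 0) d) := by
              rw [hform, blk_conjTranspose, blk_mul, blk_mul, star_one, one_mul, mul_one, hd, blk_diagonal]
    obtain ⟨v, hv⟩ := hex.resolve_left (Nat.succ_ne_zero n)
    obtain ⟨P, hP, -, ha⟩ := exists_congr_apply_zero M hε2 hM v hv hh
    rcases Nat.eq_zero_or_pos n with hn | hn
    · exact key P hP ha (Or.inl hn)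
    obtain ⟨Q, h₁, hQ, hh₁, hu₁, hform, -⟩ :=
      exists_split hε2 hεs (herm_congr hh P) (isUnit_congr hu hP) ha
    have hPQ : (P * Q)ᴴ * h * (P * Q) = blk ((Pᴴ * h * P) 0 0) h₁ := by
      rw [← hform]; simp only [conjTranspose_mul, Matrix.mul_assoc]
    by_cases hiso : ∃ t, q h₁ t ∉ M
    · obtain ⟨t, ht⟩ := hiso
      refine key (P * Q) (hP.mul hQ) (by rw [hPQ]; exact ha) (Or.inr ⟨Fin.cons 0 t, ?_, ?_⟩)
      · rw [hPQ, blk_mulVec]; simp
      · rw [hPQ, q_blk]; simpa using ht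
    push Not at hiso
    obtain ⟨m, rfl⟩ := Nat.exists_eq_succ_of_ne_zero hn.ne'
    set a := (Pᴴ * h * P) 0 0
    have haM : a ∉ M := fun h' => (‹M.IsPrime›).ne_top (M.eq_top_of_isUnit_mem h' ha)
    let x : Fin (m + 1) → A := Pi.single 0 1
    obtain ⟨g, hg, -⟩ := isUnit_iff_exists.mp hu₁
    let y : Fin (m + 1) → A := g *ᵥ x
    have hy : h₁ *ᵥ y = x := by rw [mulVec_mulVec, hg, one_mulVec]
    have hxy : star x ⬝ᵥ (h₁ *ᵥ y) = 1 := by
      rw [hy]; simp [x, dotProduct, Pi.single_apply, apply_ite star]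
    have hyx : star y ⬝ᵥ (h₁ *ᵥ x) = ε := by
      have := congrArg star hxy
      rw [star_dot, star_star, star_mulVec, hh₁, ← dotProduct_mulVec, smul_mulVec,
        dotProduct_smul, smul_eq_mul, star_one] at this
      calc star y ⬝ᵥ (h₁ *ᵥ x) = (ε * ε) * (star y ⬝ᵥ (h₁ *ᵥ x)) := by rw [hε2, one_mul]
        _ = ε := by rw [mul_assoc, this, mul_one]
    set B := blk a h₁
    have hB : Bᴴ = ε • B := hPQ ▸ herm_congr hh (P * Q)
    let v' : Fin (m + 1 + 1) → A := Fin.cons 1 x
    have hqv' : q B v' ∉ M := by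
      rw [q_blk]
      intro hc
      exact haM (by simpa using sub_mem hc (hiso x))
    have hqu := isUnit_q M hε2 hM hB v' hqv'
    obtain ⟨P', hP', hPv', ha'⟩ := exists_congr_apply_zero M hε2 hM v' hqv' hB
    obtain ⟨b, hb⟩ := isUnit_iff_exists_inv.mp hqu
    let z₀ : Fin (m + 1 + 1) → A := Fin.cons 0 y
    let z := z₀ - b • v'
    have hv'z₀ : star v' ⬝ᵥ (B *ᵥ z₀) = 1 := by
      rw [blk_mulVec, star_cons_dot, hxy]; simp
    have hz₀v' : star z₀ ⬝ᵥ (B *ᵥ v') = ε := by
      rw [blk_mulVec, star_cons_dot, hyx]; simp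
    have horth : star v' ⬝ᵥ (B *ᵥ z) = 0 := by
      simp only [z, mulVec_sub, mulVec_smul, dotProduct_sub, dotProduct_smul, smul_eq_mul, hv'z₀]
      rw [show star v' ⬝ᵥ (B *ᵥ v') = q B v' from rfl, mul_comm b, hb, sub_self]
    have hqz : q B z = q h₁ y - b * ε := by
      have : q B z = star z₀ ⬝ᵥ (B *ᵥ z) - star b * (star v' ⬝ᵥ (B *ᵥ z)) := by
        show star z ⬝ᵥ _ = _
        rw [show star z = star z₀ - star b • star v' by simp [z], sub_dotProduct, smul_dotProduct,
          smul_eq_mul]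
      rw [this, horth, mul_zero, sub_zero]
      simp only [z, mulVec_sub, mulVec_smul, dotProduct_sub, dotProduct_smul, smul_eq_mul, hz₀v']
      rw [show star z₀ ⬝ᵥ (B *ᵥ z₀) = q B z₀ from rfl, q_blk]
      simp
    have hzM : q B z ∉ M := by
      rw [hqz]
      intro hc
      have h2 : b * ε ∈ M := by simpa using sub_mem (hiso y) hc
      exact (‹M.IsPrime›).ne_top (M.eq_top_of_isUnit_mem h2
        ((IsUnit.of_mul_eq_one _ (by rw [mul_comm]; exact hb) : IsUnit b).mul (IsUnit.of_mul_eq_one _ hε2)))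
    obtain ⟨G, hG, -⟩ := isUnit_iff_exists.mp hP'
    have hC : (P * Q * P')ᴴ * h * (P * Q * P') = P'ᴴ * B * P' := by
      rw [← hPQ]; simp only [conjTranspose_mul, Matrix.mul_assoc]
    refine key (P * Q * P') ((hP.mul hQ).mul hP') (by rw [hC]; exact ha') (Or.inr ⟨G *ᵥ z, ?_, ?_⟩)
    · rw [hC, mulVec_mulVec, Matrix.mul_assoc, hG, Matrix.mul_one, ← mulVec_mulVec]
      refine Eq.trans ?_ horth
      simp only [mulVec, dotProduct, conjTranspose_apply, Pi.star_apply]
      exact Finset.sum_congr rfl fun i _ => by rw [congrFun hPv' i]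
    · rw [hC, q_congr, mulVec_mulVec, hG, one_mulVec]
      exact hzM

/-- A skew-symmetric matrix of odd size with zero diagonal has determinant zero. -/
theorem det_eq_zero_of_alternating {K : Type v} [CommRing K] (hn : Odd n) (g : Matrix (Fin n) (Fin n) K)
    (hd : ∀ i, g i i = 0) (hs : ∀ i j, g j i = - g i j) : g.det = 0 := by
  rw [det_apply']
  have hfix : ∀ σ : Equiv.Perm (Fin n), σ⁻¹ = σ → ((Equiv.Perm.sign σ : ℤ) : K) * ∏ i, g (σ i) i = 0 := by
    intro σ hσ
    have h2 : σ ^ 2 ^ 1 = 1 := by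
      rw [pow_one, pow_two]
      nth_rw 1 [← hσ]
      exact inv_mul_cancel σ
    haveI : Fact (Nat.Prime 2) := ⟨Nat.prime_two⟩
    obtain ⟨a, ha⟩ := Equiv.Perm.exists_fixed_point_of_prime (p := 2)
      (by rw [Fintype.card_fin]; exact fun h => Nat.not_even_iff_odd.mpr hn (even_iff_two_dvd.mpr h)) h2
    rw [Finset.prod_eq_zero (Finset.mem_univ a) (by rw [ha]; exact hd a), mul_zero]
  refine Finset.sum_involution (fun σ _ => σ⁻¹) (fun σ _ => ?_) (fun σ _ hne he => hne (hfix σ he))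
    (fun _ _ => Finset.mem_univ _) (fun σ _ => inv_inv σ)
  have e : ∏ i, g (σ⁻¹ i) i = - ∏ i, g (σ i) i := by
    calc ∏ i, g (σ⁻¹ i) i = ∏ i, g (σ⁻¹ (σ i)) (σ i) :=
          (Equiv.prod_comp σ (fun i => g (σ⁻¹ i) i)).symm
      _ = ∏ i, (-1) * g (σ i) i := by
          refine Finset.prod_congr rfl fun i _ => ?_
          rw [show σ⁻¹ (σ i) = i from σ.symm_apply_apply i, hs (σ i) i]; ring
      _ = - ∏ i, g (σ i) i := by
          rw [Finset.prod_mul_distrib, Finset.prod_const, Finset.card_univ, Fintype.card_fin,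
            hn.neg_one_pow]
          ring
  rw [e, Equiv.Perm.sign_inv]
  ring

include hε2 hM in
/-- Existence of a vector with unit value. -/
theorem exists_q_notMem [M.IsPrime] {h : Matrix (Fin n) (Fin n) A} (hh : hᴴ = ε • h) (hu : IsUnit h)
    (hcase : (∃ a : A, star a - a ∉ Ring.jacobson A) ∨ ε + 1 ∉ Ring.jacobson A ∨ Odd n)
    (hJ : ∀ w : A, w ∈ M → star w ∈ M → w ∈ Ring.jacobson A) :
    n = 0 ∨ ∃ v, q h v ∉ M := by
  rcases Nat.eq_zero_or_pos n with hn | hn
  · exact Or.inl hn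
  refine Or.inr ?_
  by_contra hall
  push Not at hall
  obtain ⟨g, hg, -⟩ := isUnit_iff_exists.mp hu
  let x : Fin n → A := Pi.single ⟨0, hn⟩ 1
  let w := g *ᵥ x
  have hxw : star x ⬝ᵥ (h *ᵥ w) = 1 := by
    rw [mulVec_mulVec, hg, one_mulVec]; simp [x, dotProduct, Pi.single_apply, apply_ite star]
  have hwx : star w ⬝ᵥ (h *ᵥ x) = ε := by
    have := congrArg star hxw
    rw [star_dot, star_star, star_mulVec, hh, ← dotProduct_mulVec, smul_mulVec,
      dotProduct_smul, smul_eq_mul, star_one] at this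
    calc star w ⬝ᵥ (h *ᵥ x) = (ε * ε) * (star w ⬝ᵥ (h *ᵥ x)) := by rw [hε2, one_mul]
      _ = ε := by rw [mul_assoc, this, mul_one]
  have ht : ∀ t : A, t + ε * star t ∈ M := by
    intro t
    have := hall (x + t • w)
    have e : q h (x + t • w) = q h x + (t + ε * star t) + star t * t * q h w := by
      simp only [q, mulVec_add, mulVec_smul, star_add, star_smul, add_dotProduct, dotProduct_add,
        smul_dotProduct, dotProduct_smul, smul_eq_mul, hxw, hwx]
      ring
    rw [e] at this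
    have h3 := sub_mem (sub_mem this (hall x)) (M.mul_mem_left (star t * t) (hall w))
    have e2 : q h x + (t + ε * star t) + star t * t * q h w - q h x - star t * t * q h w = t + ε * star t := by
      ring
    rwa [e2] at h3
  have h1ε : 1 + ε ∈ M := by simpa using ht 1
  have hlam : ∀ t : A, star t - t ∈ M := fun t => by
    have := sub_mem (M.mul_mem_right (star t) h1ε) (ht t)
    have e : (1 + ε) * star t - (t + ε * star t) = star t - t := by ring
    rwa [e] at this
  rcases hcase with ⟨a, ha⟩ | hc | hodd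
  · refine ha (hJ _ (hlam a) ?_)
    have := M.neg_mem (hlam a)
    simpa using this
  · refine hc (hJ _ (by rwa [add_comm]) ?_)
    have := add_mem (hlam (ε + 1)) (by rwa [add_comm] : ε + 1 ∈ M)
    rwa [sub_add_cancel] at this
  · have hstar : ∀ i j, star (h j i) = ε * h i j := fun i j => by
      have := congrFun (congrFun hh i) j
      simpa using this
    have hd : (h.map (Ideal.Quotient.mk M)).det = 0 := by
      refine det_eq_zero_of_alternating hodd _ (fun i => ?_) (fun i j => ?_)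
      · have := hall (Pi.single i 1)
        have e : q h (Pi.single i 1) = h i i := by
          simp [q, dotProduct, mulVec, Pi.single_apply, apply_ite star]
        rw [e] at this
        simpa [Ideal.Quotient.eq_zero_iff_mem] using this
      · rw [Matrix.map_apply, Matrix.map_apply, ← map_neg, Ideal.Quotient.eq, sub_neg_eq_add]
        have h4 := hlam (h j i)
        rw [hstar] at h4
        have h5 := sub_mem (M.mul_mem_right (h i j) h1ε) h4
        have e : (1 + ε) * h i j - (ε * h i j - h j i) = h j i + h i j := by ring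
        rwa [e] at h5
    have hu' := ((isUnit_iff_isUnit_det h).mp hu).map (Ideal.Quotient.mk M)
    rw [RingHom.map_det, RingHom.mapMatrix_apply, hd] at hu'
    have : Nontrivial (A ⧸ M) := Ideal.Quotient.nontrivial_iff.mpr (‹M.IsPrime›).ne_top
    exact not_isUnit_zero hu'

end Groth.Agent.HermDiag
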